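import Groth.Agent.VBCurve.K405.SubEv
import Groth.Agent.Coherent.K791.FBC0
import Groth.Agent.Sga67.LocBasis
import Groth.Agent.Ega2.QCohLocal

/-!
# Node SUB-FREE of S15230, first half: `π_* q^* N = Hom(O, N) ⊗ O_T`
-/

set_option autoImplicit false
universe u
open CategoryTheory CategoryTheory.Limits AlgebraicGeometry

namespace K405.SubFree

open Groth.Agent.Sga67.Sec Groth.Agent.Sga67.LocBasis Groth.Agent.CohqA.PullbackUniv
  Groth.Agent.CohqA.AffineBaseChange Groth.Agent.CohqA.PullbackSections

/-- A family of sections which is a basis on small opens gives an isomorphism with the free module. -/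
theorem isIso_desc {X : Scheme.{u}} {M : X.Modules} {n : ℕ} (s : Fin n → (Coh.structureModule X ⟶ M))
    (H : ∀ (x : X) (U : X.Opens), x ∈ U → ∃ V : X.Opens, V ≤ U ∧ x ∈ V ∧
      Function.Bijective fun a : Fin n → Γ(X, V) => ∑ i, a i • appS (s i) V (one X V)) :
    IsIso (Sigma.desc s) := by
  refine isIso_of_bijective _ fun x U hx => ?_
  obtain ⟨V, hVU, hxV, hV⟩ := H x U hx
  refine ⟨V, hVU, hxV, ?_⟩
  have h1 : Function.Bijective (appS (Sigma.desc s) V ∘ comb (freeBasis X n) (le_top : V ≤ ⊤)) := by
    have : (appS (Sigma.desc s) V ∘ comb (freeBasis X n) (le_top : V ≤ ⊤)) =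
        (fun a : Fin n → Γ(X, V) => ∑ i, a i • appS (s i) V (one X V)) := by
      funext a
      rw [Function.comp_apply, comb_apply, map_sum]
      refine Finset.sum_congr rfl fun i _ => ?_
      rw [LinearMap.map_smul, freeBasis, ← appS_res, res_one, ← appS_comp, Sigma.ι_desc]
    rw [this]
    exact hV
  exact (Function.Bijective.of_comp_iff _ (free_isLocBasis X n V le_top)).1 h1

/-- Global sections are morphisms from the structure sheaf. -/
theorem bijective_ev {X : Scheme.{u}} (M : X.Modules) :
    Function.Bijective fun v : Coh.structureModule X ⟶ M => appS v ⊤ (one X ⊤) := by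
  constructor
  · intro v w h
    refine hom_ext fun U s => ?_
    have h1 : ∀ v : Coh.structureModule X ⟶ M, appS v U s = toO s • res M le_top (appS v ⊤ (one X ⊤)) := fun v => by
      conv_lhs => rw [← toO_smul_one s]
      rw [map_smul, ← appS_res, res_one]
    rw [h1, h1]
    exact congrArg (fun t => toO s • res M le_top t) h
  · intro s
    refine ⟨homUnit M s, ?_⟩
    change appS (homUnit M s) ⊤ (one X ⊤) = s
    rw [homUnit_one, res_self]

variable {k : Type u} [Field k] {C : Scheme.{u}} [C.Over (Spec (CommRingCat.of k))]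

theorem ev_sum (N : C.Modules) {m : ℕ} (b : Fin m → (Coh.structureModule C ⟶ N)) (c : Fin m → k) :
    appS (∑ i, c i • b i) ⊤ (one C ⊤) =
      ∑ i, (show Γ(C, ⊤) from Coh.toGlobal (C ↘ Spec (CommRingCat.of k)) (c i)) • appS (b i) ⊤ (one C ⊤) := by
  rw [appS_sum]
  refine Finset.sum_congr rfl fun i _ => ?_
  have h := KLin.smul_app_apply (c i) (b i) ⊤ (one C ⊤)
  refine h.trans ?_
  have h2 : C.presheaf.map (homOfLE (le_top : (⊤ : C.Opens) ≤ ⊤)).op
      (Coh.toGlobal (C ↘ Spec (CommRingCat.of k)) (c i)) = Coh.toGlobal (C ↘ Spec (CommRingCat.of k)) (c i) := by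
    have : (homOfLE (le_top : (⊤ : C.Opens) ≤ ⊤)).op = 𝟙 _ := rfl
    rw [this, CategoryTheory.Functor.map_id]
    rfl
  rw [h2]
  rfl

theorem bijective_basis (N : C.Modules) {m : ℕ} (b : Module.Basis (Fin m) k (Coh.structureModule C ⟶ N)) :
    Function.Bijective fun a : Fin m → Γ(Spec (CommRingCat.of k), ⊤) =>
      ∑ i, (show Γ(C, ⊤) from (C ↘ Spec (CommRingCat.of k)).appTop (a i)) • appS (b i) ⊤ (one C ⊤) := by
  have h1 : Function.Bijective fun c : Fin m → k => appS (∑ i, c i • b i) ⊤ (one C ⊤) := by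
    have h2 : Function.Bijective fun c : Fin m → k => ∑ i, c i • b i := by
      have : (fun c : Fin m → k => ∑ i, c i • b i) = b.equivFun.symm := by
        funext c
        rw [Module.Basis.equivFun_symm_apply]
      rw [this]
      exact b.equivFun.symm.bijective
    exact (bijective_ev N).comp h2
  have h3 : Function.Bijective fun a : Fin m → Γ(Spec (CommRingCat.of k), ⊤) =>
      fun i => (Scheme.ΓSpecIso (CommRingCat.of k)).hom (a i) := by
    have h4 : Function.Bijective (Scheme.ΓSpecIso (CommRingCat.of k)).hom :=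
      ConcreteCategory.bijective_of_isIso _
    constructor
    · intro a a' h
      funext i
      exact h4.1 (congrFun h i)
    · intro c
      choose a ha using fun i => h4.2 (c i)
      exact ⟨a, funext ha⟩
  refine (Function.Bijective.comp h1 h3 : _) |> fun h => ?_
  have e : ((fun c : Fin m → k => appS (∑ i, c i • b i) ⊤ (one C ⊤)) ∘
      fun a : Fin m → Γ(Spec (CommRingCat.of k), ⊤) => fun i => (Scheme.ΓSpecIso (CommRingCat.of k)).hom (a i)) =
      fun a : Fin m → Γ(Spec (CommRingCat.of k), ⊤) =>
      ∑ i, (show Γ(C, ⊤) from (C ↘ Spec (CommRingCat.of k)).appTop (a i)) • appS (b i) ⊤ (one C ⊤) := by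
    funext a
    refine (ev_sum N b _).trans ?_
    refine Finset.sum_congr rfl fun i _ => ?_
    have h5 : Coh.toGlobal (C ↘ Spec (CommRingCat.of k)) ((Scheme.ΓSpecIso (CommRingCat.of k)).hom (a i)) =
        (C ↘ Spec (CommRingCat.of k)).appTop (a i) := by
      have h6 : (Scheme.ΓSpecIso (CommRingCat.of k)).inv ((Scheme.ΓSpecIso (CommRingCat.of k)).hom (a i)) = a i := by
        rw [← CommRingCat.comp_apply, Iso.hom_inv_id]
        rfl
      exact congrArg (C ↘ Spec (CommRingCat.of k)).appTop h6
    rw [h5]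
  rw [e] at h
  exact h

theorem isIso_base (N : C.Modules) {m : ℕ} (b : Module.Basis (Fin m) k (Coh.structureModule C ⟶ N)) :
    IsIso (Sigma.desc fun i => ClSub.unitToPush (C ↘ Spec (CommRingCat.of k)) ≫
      (Scheme.Modules.pushforward (C ↘ Spec (CommRingCat.of k))).map (b i)) := by
  refine isIso_desc _ fun x U hx => ⟨⊤, ?_, trivial, ?_⟩
  · intro y _
    have : y = x := Subsingleton.elim (α := PrimeSpectrum k) y x
    rwa [this]
  · have h1 : ∀ i, appS (ClSub.unitToPush (C ↘ Spec (CommRingCat.of k)) ≫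
        (Scheme.Modules.pushforward (C ↘ Spec (CommRingCat.of k))).map (b i)) ⊤ (one (Spec (CommRingCat.of k)) ⊤) =
        (show Sec ((Scheme.Modules.pushforward (C ↘ Spec (CommRingCat.of k))).obj N) ⊤ from
          appS (b i) ⊤ (one C ⊤)) := fun i => by
      have h2 : (C ↘ Spec (CommRingCat.of k)).app ⊤ 1 = 1 := map_one _
      exact congrArg (fun t : Γ(C, ⊤) => appS (b i) ⊤ t) h2
    have h3 : (fun a : Fin m → Γ(Spec (CommRingCat.of k), ⊤) => ∑ i, a i •
        appS (ClSub.unitToPush (C ↘ Spec (CommRingCat.of k)) ≫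
        (Scheme.Modules.pushforward (C ↘ Spec (CommRingCat.of k))).map (b i)) ⊤ (one (Spec (CommRingCat.of k)) ⊤)) =
        fun a => ∑ i, (show Γ(C, ⊤) from (C ↘ Spec (CommRingCat.of k)).appTop (a i)) • appS (b i) ⊤ (one C ⊤) := by
      funext a
      refine Finset.sum_congr rfl fun i _ => ?_
      rw [h1]
      rfl
    rw [h3]
    exact bijective_basis N b

end K405.SubFree

namespace K405.SubFree

open AlgebraicGeometry.Scheme.Modules
open Groth.Agent.Sga2lef.H96.Transp Groth.Agent.Fga.UnitRestrict
open Groth.Agent.CohqA.PullbackUniv Groth.Agent.CohqA.AffineBaseChange Groth.Agent.CohqA.PullbackSections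

variable {X S X' S' : Scheme.{u}}

theorem isUniv_unitToPush (g : S' ⟶ S) : IsUniv g (ClSub.unitToPush g) := by
  have h := (isUniv_unit g (Coh.structureModule S)).comp_iso (pullbackUnitIso g)
  have h2 : (pullbackPushforwardAdjunction g).unit.app (Coh.structureModule S) ≫
      (pushforward g).map (pullbackUnitIso g).hom = ClSub.unitToPush g := unit_pullbackUnitHom g
  rwa [h2] at h

/-- The map from the free module to the direct image of the free module. -/
noncomputable def freeUnit (g : S' ⟶ S) (m : ℕ) :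
    (∐ fun _ : Fin m => Coh.structureModule S) ⟶
      (pushforward g).obj (∐ fun _ : Fin m => Coh.structureModule S') :=
  Sigma.desc fun i => ClSub.unitToPush g ≫ (pushforward g).map (Sigma.ι (fun _ : Fin m => Coh.structureModule S') i)

theorem ι_freeUnit (g : S' ⟶ S) (m : ℕ) (i : Fin m) {P : S'.Modules}
    (φ : (∐ fun _ : Fin m => Coh.structureModule S') ⟶ P) :
    Sigma.ι (fun _ : Fin m => Coh.structureModule S) i ≫ freeUnit g m ≫ (pushforward g).map φ =
      ClSub.unitToPush g ≫ (pushforward g).map (Sigma.ι (fun _ : Fin m => Coh.structureModule S') i ≫ φ) := by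
  rw [freeUnit, Sigma.ι_desc_assoc, Category.assoc, ← Functor.map_comp]

theorem isUniv_freeUnit (g : S' ⟶ S) (m : ℕ) : IsUniv g (freeUnit g m) := by
  intro P
  constructor
  · intro φ ψ h
    refine Sigma.hom_ext _ _ fun i => (isUniv_unitToPush g P).1 ?_
    change ClSub.unitToPush g ≫ (pushforward g).map _ = ClSub.unitToPush g ≫ (pushforward g).map _
    rw [← ι_freeUnit, ← ι_freeUnit]
    exact congrArg (fun t => Sigma.ι (fun _ : Fin m => Coh.structureModule S) i ≫ t) h
  · intro w
    choose φ hφ using fun i => (isUniv_unitToPush g P).2 (Sigma.ι (fun _ : Fin m => Coh.structureModule S) i ≫ w)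
    refine ⟨Sigma.desc φ, Sigma.hom_ext _ _ fun i => ?_⟩
    change _ ≫ freeUnit g m ≫ (pushforward g).map _ = _
    rw [ι_freeUnit, Sigma.ι_desc]
    exact hφ i

theorem unit_pushSquare (f : X ⟶ S) (g : S' ⟶ S) (q : X' ⟶ X) (p : X' ⟶ S') (w : q ≫ f = p ≫ g)
    {N : X.Modules} (v : Coh.structureModule X ⟶ N) :
    (ClSub.unitToPush f ≫ (pushforward f).map v) ≫ pushSquare f g q p w (pbUnit q N) =
      ClSub.unitToPush g ≫ (pushforward g).map
        (ClSub.unitToPush p ≫ (pushforward p).map ((pullbackUnitIso q).inv ≫ (Scheme.Modules.pullback q).map v)) := by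
  let A := (pullbackUnitIso q).inv ≫ (Scheme.Modules.pullback q).map v
  have h1 : v ≫ pbUnit q N = ClSub.unitToPush q ≫ (pushforward q).map A := by
    have h := (pullbackPushforwardAdjunction q).unit.naturality v
    refine h.trans ?_
    rw [K405.SubEv.unit_app_structureModule, Category.assoc]
    refine congrArg (fun t => ClSub.unitToPush q ≫ t) ?_
    exact ((pushforward q).map_comp _ _).symm
  have h2 : (pushforward f).map v ≫ (pushforward f).map (pbUnit q N) =
      (pushforward f).map (ClSub.unitToPush q) ≫ (pushforward f).map ((pushforward q).map A) := by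
    rw [← Functor.map_comp, h1, Functor.map_comp]
  have h3 : (pushforward f).map ((pushforward q).map A) ≫ (pushforwardComp q f).hom.app _ ≫
      (pushforwardCongr w).hom.app _ = ((pushforwardComp q f).hom.app _ ≫ (pushforwardCongr w).hom.app _) ≫
        (pushforward (p ≫ g)).map A := pp_naturality q f (p ≫ g) w A
  have h4 : ClSub.unitToPush f ≫ (pushforward f).map (ClSub.unitToPush q) ≫
      (pushforwardComp q f).hom.app _ ≫ (pushforwardCongr w).hom.app _ = ClSub.unitToPush (p ≫ g) :=
    K183.ComplHom.unitToPush_qm q f (p ≫ g) w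
  have h5 : (pushforward (p ≫ g)).map A ≫ (pushforwardComp p g).inv.app _ =
      (pushforwardComp p g).inv.app _ ≫ (pushforward g).map ((pushforward p).map A) :=
    (pushforwardComp p g).inv.naturality A
  have h6 : ClSub.unitToPush (p ≫ g) ≫ (pushforwardComp p g).inv.app _ =
      ClSub.unitToPush g ≫ (pushforward g).map (ClSub.unitToPush p) := by
    ext V s
    rfl
  rw [pushSquare, Category.assoc, reassoc_of% h2, reassoc_of% h3, reassoc_of% h4, h5, reassoc_of% h6]
  exact congrArg (fun t => ClSub.unitToPush g ≫ t) ((pushforward g).map_comp _ _).symm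

end K405.SubFree

namespace K405.SubFree

open Groth.Agent.Fga.UnitRestrict Groth.Agent.CohqA.PullbackUniv Groth.Agent.CohqA.AffineBaseChange
  Groth.Agent.CohqA.PullbackSections

/-- Flat base change for the sections of a quasi-coherent module over a field. -/
theorem isIso_main {k : Type u} [Field k] {C X' T : Scheme.{u}} [C.Over (Spec (CommRingCat.of k))]
    [QuasiCompact (C ↘ Spec (CommRingCat.of k))] [QuasiSeparated (C ↘ Spec (CommRingCat.of k))]
    (g : T ⟶ Spec (CommRingCat.of k)) [Flat g] {q : X' ⟶ C} {p : X' ⟶ T}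
    (H : IsPullback q p (C ↘ Spec (CommRingCat.of k)) g) {N : C.Modules} (hN : Coh.IsQCoh N) {m : ℕ}
    (b : Module.Basis (Fin m) k (Coh.structureModule C ⟶ N)) :
    IsIso (Sigma.desc fun i => ClSub.unitToPush p ≫ (Scheme.Modules.pushforward p).map
      ((pullbackUnitIso q).inv ≫ (Scheme.Modules.pullback q).map (b i))) := by
  let D := Sigma.desc fun i => ClSub.unitToPush p ≫ (Scheme.Modules.pushforward p).map
      ((pullbackUnitIso q).inv ≫ (Scheme.Modules.pullback q).map (b i))
  let Φ := Sigma.desc fun i => ClSub.unitToPush (C ↘ Spec (CommRingCat.of k)) ≫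
      (Scheme.Modules.pushforward (C ↘ Spec (CommRingCat.of k))).map (b i)
  have hΦ : IsIso Φ := isIso_base N b
  have h1 : IsUniv g (pushSquare (C ↘ Spec (CommRingCat.of k)) g q p H.w (pbUnit q N)) :=
    Groth.Agent.Coherent.K791.FBC0.isUniv_pushSquare_flat H hN (pbUnit q N) (isUniv_pbUnit q N)
  have h2 : IsUniv g (Φ ≫ pushSquare (C ↘ Spec (CommRingCat.of k)) g q p H.w (pbUnit q N)) := h1.iso_comp Φ
  have h3 : freeUnit g m ≫ (Scheme.Modules.pushforward g).map D =
      Φ ≫ pushSquare (C ↘ Spec (CommRingCat.of k)) g q p H.w (pbUnit q N) := by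
    refine Sigma.hom_ext _ _ fun i => ?_
    rw [ι_freeUnit, Sigma.ι_desc, Sigma.ι_desc_assoc]
    exact (unit_pushSquare _ _ _ _ H.w (b i)).symm
  obtain ⟨e, he, -⟩ := (isUniv_freeUnit g m).exists_iso h2
  have h4 : D = e.hom := (isUniv_freeUnit g m _).1 (h3.trans he.symm)
  change IsIso D
  rw [h4]
  infer_instance

end K405.SubFree

namespace K553.Sub

variable {k : Type u} [Field k] [IsAlgClosed k] (C : Over (Spec (CommRingCat.of k)))
  [IsIntegral C.left] [IsProper C.hom] [Smooth C.hom] {T : Over (Spec (CommRingCat.of k))} {N : C.left.Modules}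
  (hN : PicF.IsInvertible N)

set_option linter.unusedSectionVars false in
include hN in
theorem isIso_desc_sec [LocallyOfFiniteType T.hom] {m : ℕ} (b : Module.Basis (Fin m) k (Coh.structureModule C.left ⟶ N)) :
    IsIso (Sigma.desc fun i : Fin m => sec (T := T) (b i)) := by
  have h1 : QuasiCompact (C.left ↘ Spec (CommRingCat.of k)) := inferInstanceAs (QuasiCompact C.hom)
  have h2 : QuasiSeparated (C.left ↘ Spec (CommRingCat.of k)) := inferInstanceAs (QuasiSeparated C.hom)
  have H : IsPullback (qr C T).left (pr C T).left (C.left ↘ Spec (CommRingCat.of k)) T.hom :=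
    (IsPullback.of_hasPullback T.hom C.hom).flip
  exact K405.SubFree.isIso_main T.hom H (Groth.Agent.Ega2.QCohLocal.isQCoh_of_isInvertible hN) b

end K553.Sub
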