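import Groth.Agent.VBCurve.K553.SubDefs2
import Groth.Agent.Lef.K183.ComplHom

/-!
# Node SUB-FREE of S15230, second half: `sec v ≫ ev N y = psec y v`
-/

set_option autoImplicit false
universe u
open CategoryTheory AlgebraicGeometry

namespace K405.SubEv

open AlgebraicGeometry.Scheme.Modules
open Groth.Agent.Sga2lef.H96.Transp Groth.Agent.Fga.UnitRestrict

theorem unitToPush_id (X : Scheme.{u}) :
    ClSub.unitToPush (𝟙 X) ≫ (pushforwardId X).hom.app _ = 𝟙 (Coh.structureModule X) := by
  ext V s
  rfl

variable {X Y Z : Scheme.{u}}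

theorem unit_app_structureModule (f : X ⟶ Y) :
    (pullbackPushforwardAdjunction f).unit.app (Coh.structureModule Y) =
      ClSub.unitToPush f ≫ (pushforward f).map (pullbackUnitIso f).inv := by
  have h : (pullbackPushforwardAdjunction f).unit.app (Coh.structureModule Y) ≫
      (pushforward f).map (pullbackUnitIso f).hom = ClSub.unitToPush f := unit_pullbackUnitHom f
  rw [← h, Category.assoc, ← Functor.map_comp, Iso.hom_inv_id, CategoryTheory.Functor.map_id]
  exact (Category.comp_id _).symm

theorem qq_naturality (τ : Z ⟶ Y) (g : Y ⟶ X) (h : Z ⟶ X) (w : τ ≫ g = h) {M M' : X.Modules} (φ : M ⟶ M') :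
    (pullback τ).map ((pullback g).map φ) ≫ (qq τ g h w M').hom = (qq τ g h w M).hom ≫ (pullback h).map φ := by
  subst w
  have e : ∀ M : X.Modules, (qq τ g (τ ≫ g) rfl M).hom = (pullbackComp τ g).hom.app M := fun M => by
    simp only [qq, Iso.trans_hom, Iso.app_hom]
    exact Category.comp_id _
  rw [e, e]
  exact (pullbackComp τ g).hom.naturality φ

theorem main (σ : X ⟶ Z) (p : Z ⟶ X) (q : Z ⟶ Y) (y : X ⟶ Y) (hp : σ ≫ p = 𝟙 X) (hq : σ ≫ q = y)
    {N : Y.Modules} (v : Coh.structureModule Y ⟶ N) :
    (ClSub.unitToPush p ≫ (pushforward p).map ((pullbackUnitIso q).inv ≫ (pullback q).map v)) ≫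
      (pushforward p).map ((pullbackPushforwardAdjunction σ).unit.app ((pullback q).obj N)) ≫
        (pushforwardComp σ p).hom.app _ ≫ (pushforwardCongr hp).hom.app _ ≫
          (pushforwardId X).hom.app _ ≫ (pullbackComp σ q).hom.app N ≫ (pullbackCongr hq).hom.app N =
      (pullbackUnitIso y).inv ≫ (pullback y).map v := by
  let A := (pullbackUnitIso q).inv ≫ (pullback q).map v
  let B := (pullbackUnitIso σ).inv ≫ (pullback σ).map A
  have h1 : A ≫ (pullbackPushforwardAdjunction σ).unit.app ((pullback q).obj N) =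
      ClSub.unitToPush σ ≫ (pushforward σ).map B := by
    have h := (pullbackPushforwardAdjunction σ).unit.naturality A
    refine h.trans ?_
    rw [unit_app_structureModule, Category.assoc]
    refine congrArg (fun t => ClSub.unitToPush σ ≫ t) ?_
    exact ((pushforward σ).map_comp _ _).symm
  have h2 : (pushforward p).map A ≫
      (pushforward p).map ((pullbackPushforwardAdjunction σ).unit.app ((pullback q).obj N)) =
      (pushforward p).map (ClSub.unitToPush σ) ≫ (pushforward p).map ((pushforward σ).map B) := by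
    rw [← Functor.map_comp, h1, Functor.map_comp]
  have h3 : (pushforward p).map ((pushforward σ).map B) ≫ (pushforwardComp σ p).hom.app _ ≫
      (pushforwardCongr hp).hom.app _ = ((pushforwardComp σ p).hom.app _ ≫ (pushforwardCongr hp).hom.app _) ≫
        (pushforward (𝟙 X)).map B := pp_naturality σ p (𝟙 X) hp B
  have h4 : ClSub.unitToPush p ≫ (pushforward p).map (ClSub.unitToPush σ) ≫
      (pushforwardComp σ p).hom.app _ ≫ (pushforwardCongr hp).hom.app _ = ClSub.unitToPush (𝟙 X) :=
    K183.ComplHom.unitToPush_qm σ p (𝟙 X) hp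
  have h5 : ClSub.unitToPush (𝟙 X) ≫ (pushforward (𝟙 X)).map B ≫ (pushforwardId X).hom.app _ = B := by
    refine (congrArg (fun t => ClSub.unitToPush (𝟙 X) ≫ t) ((pushforwardId X).hom.naturality B)).trans ?_
    refine (Category.assoc _ _ _).symm.trans ?_
    exact (congrArg (fun t => t ≫ B) (unitToPush_id X)).trans (Category.id_comp _)
  have h6 : (pullbackUnitIso σ).inv ≫ (pullback σ).map (pullbackUnitIso q).inv ≫
      (qq σ q y hq (Coh.structureModule Y)).hom = (pullbackUnitIso y).inv := by
    have h : (pullback σ).map (pullbackUnitIso q).hom ≫ (pullbackUnitIso σ).hom =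
      (qq σ q y hq (Coh.structureModule Y)).hom ≫ (pullbackUnitIso y).hom := K183.ComplHom.qq_unit σ q y hq
    rw [Iso.inv_comp_eq, ← cancel_mono (pullbackUnitIso y).hom, Category.assoc, Category.assoc, Iso.inv_hom_id,
      Category.comp_id, ← h, ← Category.assoc, ← Functor.map_comp, Iso.inv_hom_id, CategoryTheory.Functor.map_id,
      Category.id_comp]
  have h7 : B ≫ (qq σ q y hq N).hom = (pullbackUnitIso y).inv ≫ (pullback y).map v := by
    have e : (pullback σ).map A = (pullback σ).map (pullbackUnitIso q).inv ≫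
        (pullback σ).map ((pullback q).map v) := (pullback σ).map_comp _ _
    change ((pullbackUnitIso σ).inv ≫ (pullback σ).map A) ≫ (qq σ q y hq N).hom = _
    rw [e, Category.assoc, Category.assoc, qq_naturality, ← h6, Category.assoc, Category.assoc]
  have h8 : (pullbackComp σ q).hom.app N ≫ (pullbackCongr hq).hom.app N = (qq σ q y hq N).hom := rfl
  rw [h8]
  change (ClSub.unitToPush p ≫ (pushforward p).map A) ≫ _ = _
  rw [Category.assoc, reassoc_of% h2, reassoc_of% h3, reassoc_of% h4, reassoc_of% h5]
  exact h7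

end K405.SubEv

namespace K553.Sub

variable {k : Type u} [Field k] [IsAlgClosed k] (C : Over (Spec (CommRingCat.of k)))
  [IsIntegral C.left] [IsProper C.hom] [Smooth C.hom] {T : Over (Spec (CommRingCat.of k))} {N : C.left.Modules}

set_option linter.unusedSectionVars false in
theorem sec_ev (v : Coh.structureModule C.left ⟶ N) (y : T ⟶ C) : sec v ≫ ev N y = psec y v :=
  K405.SubEv.main (lft (𝟙 T) y).left (pr C T).left (qr C T).left y.left _ _ v

end K553.Sub
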